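import Mathlib
import Cfsg.Prelude.Def_ChevStructure
import Cfsg.Prelude.Def_LieTwisted
import Cfsg.Agent.Lib.helper8.ChevTwD4H
import Cfsg.Agent.Lib.helper8.ChevFix1

/-!
# Project TD4 (designer helper8): S2376 (10u): `³D₄(q)` has a self-centralising cyclic subgroup of
order `(q³ - 1)(q + 1)`.

Definitions only.  `K` is the field of `q³` elements over which `twistedD4 K q` is defined, `E` a field of
`q⁶` elements containing it.  Roots of `D₄` (indices in `Def_ChevD4`): `α₁ = 18`, `α₂ = 14` (the central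
node, `-α₂ = 9`), `α₃ = 13`, `α₄ = 12`, `α₁+α₂ = 19`, `α₂+α₃ = 16`, `α₂+α₄ = 15`; the triality `σ = h8sD4`
is `18 → 13 → 12 → 18`.
-/

set_option autoImplicit false

namespace Cfsg.Agent.Lib.helper8.TD4

open Cfsg.Lie Cfsg.Lie.ChevalleyDatum Cfsg.Agent.Lib.helper8

universe u v

/-- `ρ = s_β ∘ σ` on the root indices (`β = α₂`, the root `14`); `ρ` has order six and
`18 → 16 → 12 → 19 → 13 → 15 → 18`. -/
def rho (r : ℕ) : ℕ := chevD4.reflectRoot 1 (h8sD4 r)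

/-- the `j`-th coordinate of the root `r` in the simple roots `α₁ α₂ α₃ α₄` (`D₄` is simply laced) -/
def co (r j : ℕ) : ℤ := (chevD4.coroot.getD r #[]).getD j 0

/-- the exponent of the root `r`: a `ρ`-twisted character with value `v` on `α₁` (so `v ^ nT q = 1`) has
value `v ^ kZ q r` on `r`.  The values on `α₁ α₂ α₃ α₄` are `1`, `q³ - 1`, `q⁴ - nT q = q + 1 - q³`, `q²`;
all 24 values lie strictly between `-(nT q - 1)` and `nT q - 1`. -/
def kZ (q r : ℕ) : ℤ :=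
  co r 0 + co r 1 * ((q : ℤ) ^ 3 - 1) + co r 2 * ((q : ℤ) + 1 - (q : ℤ) ^ 3) + co r 3 * (q : ℤ) ^ 2

/-- the order of the torus -/
def nT (q : ℕ) : ℕ := (q ^ 3 - 1) * (q + 1)

section

variable {F : Type u} [Field F] (hB : H8Base.{u} chevD4)

/-- the torus element `h_{α₁}(t) h_{α₃}(t^q) h_{α₄}(t^{q²})` -/
def hJ (q : ℕ) (t : F) : GL chevD4.Idx F :=
  h8hU chevD4 hB 18 t * h8hU chevD4 hB 13 (t ^ q) * h8hU chevD4 hB 12 (t ^ (q ^ 2))

/-- the generator `h_J(t) n_β⁻¹ x_β(τ)` of the torus -/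
def x0 (q : ℕ) (t τ : F) : GL chevD4.Idx F :=
  hJ hB q t * (h8nU chevD4 hB 14 1)⁻¹ * h8xU chevD4 hB 14 τ

/-- the conjugating element `x_{-β}(s) x_β(m^q)`, `s = (m - m^q)⁻¹`, over the big field -/
def cE (q : ℕ) (m : F) : GL chevD4.Idx F :=
  h8xU chevD4 hB 9 (m - m ^ q)⁻¹ * h8xU chevD4 hB 14 (m ^ q)

/-- the diagonal form `h_J(t) h_β(m⁻¹)` of the generator -/
def h0 (q : ℕ) (t m : F) : GL chevD4.Idx F :=
  hJ hB q t * h8hU chevD4 hB 14 m⁻¹

/-- the twisting endomorphism (triality composed with the field automorphism `f`) -/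
noncomputable def Fr (hA : H8ReflAll chevD4) (f : F ≃+* F) :
    GL chevD4.Idx F →* GL chevD4.Idx F :=
  h8Sig chevD4 h8sD4 h8tD4 h8pD4 h8qD4 h8eD4 (h8autD4 hA) f

end

/-- the parameters: `t ∈ Kˣ`, `τ ∈ F_q ⊆ K`, `m ∈ F_{q²} ∖ F_q ⊆ E` with `τ = m + m^q`,
`N(t) m^{q+1} = 1`, and `t² m` of order `(q³-1)(q+1)` -/
structure Par {K : Type u} {E : Type v} [Field K] [Field E] (q : ℕ) (ι : K →+* E) (t τ : K) (m : E) :
    Prop where
  ht : t ≠ 0
  hτ : τ ^ q = τ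
  hm2 : m ^ (q ^ 2) = m
  hmq : m ≠ m ^ q
  hτm : ι τ = m + m ^ q
  hN : ι t * ι t ^ q * ι t ^ (q ^ 2) * m ^ (q + 1) = 1
  hord : orderOf (ι t ^ 2 * m) = nT q

end Cfsg.Agent.Lib.helper8.TD4
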